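import Mathlib

/-!
The arithmetic excluding an inverting involution that centralises no element of order eleven.
-/

set_option autoImplicit false

namespace H53.Eleven

/-- `11 * u = h * (5 * h + 6)` with `h = 10 * c + 1` is impossible. -/
theorem count_false {c s u : ℕ} (hu : 1 < u) (h11 : 11 ∣ u) (hs2 : Odd s) (hc2 : Odd c)
    (h11q : ¬ 11 ∣ c * s) (hq1 : c * s = 1 ∨ c * s % 11 = 1) (hcs : c * c ≤ c * s)
    (hqu : c * s ∣ u - 1) (heq : 11 * u = (10 * c + 1) * (5 * (10 * c + 1) + 6)) : False := by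
  obtain ⟨u', rfl⟩ := h11
  have h121 : (10 * c + 1) * (5 * (10 * c + 1) + 6) % 121 = 0 := by omega
  have key : ∀ r < 121, (10 * r + 1) * (5 * (10 * r + 1) + 6) % 121 = 0 → r = 12 ∨ r % 11 = 0 := by
    decide +kernel
  have hr : c % 121 = 12 := by
    have hm : (10 * c + 1) * (5 * (10 * c + 1) + 6) ≡
        (10 * (c % 121) + 1) * (5 * (10 * (c % 121) + 1) + 6) [MOD 121] := by
      gcongr <;> exact (Nat.mod_modEq _ _).symm
    rcases key (c % 121) (Nat.mod_lt _ (by norm_num)) (by rw [← hm]; exact h121) with h | h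
    · exact h
    · exfalso
      exact h11q (dvd_mul_of_dvd_left (by omega) s)
  have hc : 12 ≤ c := by omega
  have hcm : c % 11 = 1 := by omega
  have hsm : s % 11 = 1 := by
    rcases hq1 with h | h
    · have := Nat.eq_one_of_mul_eq_one_left h
      omega
    · rw [Nat.mul_mod, hcm, one_mul, Nat.mod_mod] at h
      exact h
  have hsc : c ≤ s := Nat.le_of_mul_le_mul_left hcs (by omega)
  have h1 : 11 * (11 * u' - 1) = c * (500 * c + 160) := by
    have : (10 * c + 1) * (5 * (10 * c + 1) + 6) = c * (500 * c + 160) + 11 := by ring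
    omega
  obtain ⟨k, hk⟩ := hqu
  rw [hk] at h1
  have h2 : 11 * (s * k) = 500 * c + 160 :=
    Nat.eq_of_mul_eq_mul_left (show 0 < c by omega) (by rw [← h1]; ring)
  obtain ⟨j, rfl⟩ : ∃ j, c = 121 * j + 12 := ⟨c / 121, by omega⟩
  have hk0 : k < 47 := by
    by_contra hcon
    push Not at hcon
    have := Nat.mul_le_mul hsc hcon
    omega
  obtain ⟨i, rfl⟩ : ∃ i, s = 11 * i + 1 := ⟨s / 11, by omega⟩
  obtain ⟨i', rfl⟩ : ∃ i', i = 2 * i' := ⟨i / 2, by rw [Nat.odd_iff] at hs2; omega⟩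
  rw [Nat.odd_iff] at hc2
  have h3 : (11 * (2 * i') + 1) * k = i' * k * 22 + k := by ring
  rw [h3] at h2
  interval_cases k <;> omega

end H53.Eleven
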