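import Cfsg.Agent.H53.Eleven.Setting
import Cfsg.Agent.H66.ZassCorollaries

/-!
The number of fixed points of an inverting involution in case A of S3403.
-/

set_option autoImplicit false
set_option linter.style.haveILetI false
set_option linter.unusedSectionVars false

namespace H53.Eleven

open MulAction H63.Eleven H66.Eleven

universe u v

namespace Ctx

variable {G : Type u} {Ω : Type v} [Group G] [Finite G] [MulAction G Ω] {A : ACore G Ω}
  (X : Ctx A)

/-- The number of fixed points of the involution. -/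
noncomputable def f : ℕ := {d : Ω | X.t • d = d}.ncard

/-- The elements `y ^ i * x` with `x` centralised by the involution. -/
def D : Subgroup G where
  carrier := {g | ∃ i : Fin 5, ∃ x ∈ X.C, g = X.y ^ (i : ℕ) * x}
  one_mem' := ⟨0, 1, one_mem _, by simp⟩
  mul_mem' := by
    rintro _ _ ⟨i, x, hx, rfl⟩ ⟨j, x', hx', rfl⟩
    exact ⟨i + j, x * x', mul_mem hx hx', X.ypow_mul (X.mem_C.1 hx).1⟩
  inv_mem' := by
    rintro _ ⟨i, x, hx, rfl⟩
    refine ⟨-i, x⁻¹, inv_mem hx, inv_eq_of_mul_eq_one_right ?_⟩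
    rw [X.ypow_mul (X.mem_C.1 hx).1, add_neg_cancel, mul_inv_cancel]
    simp

theorem card_D : Nat.card X.D = 5 * Nat.card X.C := by
  rw [← Nat.card_fin 5, ← Nat.card_prod]
  refine (Nat.card_eq_of_bijective
    (fun p : Fin 5 × X.C => (⟨X.y ^ (p.1 : ℕ) * p.2, p.1, p.2, p.2.2, rfl⟩ : X.D)) ⟨?_, ?_⟩).symm
  · rintro ⟨i, x⟩ ⟨j, x'⟩ h
    obtain ⟨rfl, hx⟩ := X.ypow_inj (X.mem_C.1 x.2).1 (X.mem_C.1 x'.2).1 (congrArg Subtype.val h)
    exact Prod.ext rfl (Subtype.ext hx)
  · rintro ⟨_, i, x, hx, rfl⟩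
    exact ⟨(i, ⟨x, hx⟩), rfl⟩

theorem D_facts {g : G} (hg : g ∈ X.D) :
    g • X.a = X.a ∧ g • X.b = X.b ∧ X.t * g = g * X.t := by
  obtain ⟨i, x, hx, rfl⟩ := hg
  obtain ⟨hxV, hxt⟩ := X.mem_C.1 hx
  obtain ⟨h1, h2⟩ := mul_mem (pow_mem X.y_mem_M (i : ℕ)) (X.V_le_M hxV)
  refine ⟨h1, h2, ?_⟩
  rw [← mul_assoc, (Commute.pow_right X.ty _).eq, mul_assoc, hxt, mul_assoc]

theorem D_free {g : G} (hg : g ∈ X.D) {d : Ω} (htd : X.t • d = d) (hda : d ≠ X.a)
    (hdb : d ≠ X.b) (h : g • d = d) : g = 1 := by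
  obtain ⟨i, x, hx, rfl⟩ := hg
  obtain ⟨rfl, rfl⟩ := X.free hx htd hda hdb h
  simp

theorem dvd_f : 5 * Nat.card X.C ∣ X.f - 2 := by
  haveI := finiteΩ A
  have h2 : ({X.a, X.b} : Set Ω) ⊆ {d | X.t • d = d} := by
    rintro d (rfl | rfl)
    exacts [X.ta, X.tb]
  rw [← X.card_D, f, ← Set.ncard_pair X.hab, ← Set.ncard_sdiff h2]
  refine card_dvd_of_free X.D _ (fun g hg d hd => ?_) fun g hg d hd h =>
    X.D_free hg hd.1 (fun e => hd.2 (Or.inl e)) (fun e => hd.2 (Or.inr e)) h
  obtain ⟨ga, gb, gt⟩ := X.D_facts hg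
  refine ⟨?_, ?_⟩
  · show X.t • g • d = g • d
    rw [← mul_smul, gt, mul_smul, hd.1]
  · rintro (e | e)
    · exact hd.2 (Or.inl (MulAction.injective g (e.trans ga.symm)))
    · exact hd.2 (Or.inr (MulAction.injective g (e.trans gb.symm)))

theorem even_f (hu : Odd A.u) : Even X.f := by
  haveI := finiteΩ A
  haveI : Fact (Nat.Prime 2) := ⟨Nat.prime_two⟩
  have h := ncard_modEq_fix (p := 2) (show X.t ^ 2 = 1 by rw [pow_two]; exact X.tt)
    (Set.univ : Set Ω) fun _ _ => trivial
  simp only [Set.mem_univ, true_and, Set.ncard_univ, A.card_points] at h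
  rw [Nat.odd_iff] at hu
  rw [Nat.even_iff]
  unfold f
  unfold Nat.ModEq at h
  omega

theorem two_le_f : 2 ≤ X.f := by
  haveI := finiteΩ A
  rw [f, ← Set.ncard_pair X.hab]
  refine Set.ncard_le_ncard ?_
  rintro d (rfl | rfl)
  exacts [X.ta, X.tb]

/-- The centraliser of the involution is doubly transitive on its fixed points. -/
theorem exists_centralizer {c d : Ω} (hc : X.t • c = c) (hd : X.t • d = d) (hcd : c ≠ d) :
    ∃ g, g * X.t = X.t * g ∧ g • X.a = c ∧ g • X.b = d := by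
  obtain ⟨g, hga, hgb⟩ := A.twoTrans X.a X.b c d X.hab hcd
  have hM : g⁻¹ * X.t * g ∈ M2 G X.a X.b := by
    refine ⟨?_, ?_⟩
    · show (g⁻¹ * X.t * g) • X.a = X.a
      rw [mul_smul, mul_smul, hga, hc, ← hga, inv_smul_smul]
    · show (g⁻¹ * X.t * g) • X.b = X.b
      rw [mul_smul, mul_smul, hgb, hd, ← hgb, inv_smul_smul]
  obtain ⟨x, hx, hxi, hm⟩ := X.invol_M hM
    (by rw [show g⁻¹ * X.t * g * (g⁻¹ * X.t * g) = g⁻¹ * (X.t * X.t) * g by group, X.tt]; group)
    fun h => X.t_ne_one (by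
      have := congrArg (fun r => g * r * g⁻¹) h
      simpa [mul_assoc] using this)
  obtain ⟨z, hz, hzt⟩ := X.exists_conj hx hxi
  refine ⟨g * z⁻¹, ?_, ?_, ?_⟩
  · calc g * z⁻¹ * X.t = g * (z⁻¹ * X.t * z) * z⁻¹ := by group
      _ = g * (g⁻¹ * X.t * g) * z⁻¹ := by rw [hzt, hm]
      _ = X.t * (g * z⁻¹) := by group
  · rw [mul_smul, (X.V_le_M (inv_mem hz)).1, hga]
  · rw [mul_smul, (X.V_le_M (inv_mem hz)).2, hgb]

/-- The elements of the two-point stabiliser centralising the involution. -/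
theorem decomp_centralizer {g : G} (hg : g ∈ M2 G X.a X.b) (hgt : g * X.t = X.t * g) :
    g ∈ X.D ∨ X.t * g ∈ X.D := by
  have key : ∀ (i : Fin 5) (x : G), x ∈ X.V →
      X.t * (X.y ^ (i : ℕ) * x) = X.y ^ (i : ℕ) * x * X.t → X.y ^ (i : ℕ) * x ∈ X.D := by
    intro i x hx h
    refine ⟨i, x, X.mem_C.2 ⟨hx, ?_⟩, rfl⟩
    rw [← mul_assoc, (Commute.pow_right X.ty _).eq, mul_assoc, mul_assoc] at h
    exact mul_left_cancel h
  obtain ⟨i, x, hx, rfl | rfl⟩ := X.decomp hg
  · exact Or.inl (key i x hx hgt.symm)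
  · refine Or.inr ?_
    rw [← mul_assoc, X.tt, one_mul]
    refine key i x hx ?_
    rw [mul_assoc X.t] at hgt
    exact (mul_left_cancel hgt).symm

/-- Ito's bound for the action of the centraliser on the fixed points. -/
theorem f_le (hu : Odd A.u) (hf : 2 < X.f) : X.f ≤ 10 * Nat.card X.C + 2 := by
  haveI := finiteΩ A
  let H : Subgroup G := Subgroup.centralizer {X.t}
  have hH : ∀ {g : G}, g ∈ H ↔ g * X.t = X.t * g := fun {g} =>
    Subgroup.mem_centralizer_singleton_iff
  let F : SubMulAction H Ω :=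
    { carrier := {d | X.t • d = d}
      smul_mem' := fun g d (hd : X.t • d = d) => by
        show X.t • (g : G) • d = (g : G) • d
        rw [← mul_smul, ← hH.1 g.2, mul_smul, hd] }
  let π : H →* Equiv.Perm F := MulAction.toPermHom H F
  have hπ : ∀ (g : H) (d : F), ((π g d : F) : Ω) = (g : G) • (d : Ω) := fun _ _ => rfl
  have hsm : ∀ (g : H) (d : F), ((π.rangeRestrict g • d : F) : Ω) = (g : G) • (d : Ω) :=
    fun _ _ => rfl
  have hlift : ∀ r : π.range, ∃ g : H, π.rangeRestrict g = r := π.rangeRestrict_surjective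
  let a' : F := ⟨X.a, X.ta⟩
  let b' : F := ⟨X.b, X.tb⟩
  have hab' : a' ≠ b' := fun h => X.hab (congrArg Subtype.val h)
  obtain ⟨e, het, hea, heb⟩ : ∃ e, X.t • e = e ∧ e ≠ X.a ∧ e ≠ X.b := by
    have hn : ¬ {d | X.t • d = d} ⊆ {X.a, X.b} := fun h => by
      have := Set.ncard_le_ncard h
      rw [Set.ncard_pair X.hab] at this
      unfold f at hf
      omega
    obtain ⟨e, he, he'⟩ := Set.not_subset.1 hn
    exact ⟨e, he, fun h => he' (Or.inl h), fun h => he' (Or.inr h)⟩
  have hD : ∀ {g : G}, g ∈ X.D → g ∈ H := fun hg => hH.2 (X.D_facts hg).2.2.symm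
  let φ : X.D → ↥(stabilizer π.range a' ⊓ stabilizer π.range b') := fun g =>
    ⟨π.rangeRestrict ⟨g, hD g.2⟩, Subtype.ext (X.D_facts g.2).1,
      Subtype.ext (X.D_facts g.2).2.1⟩
  have hφ : Function.Bijective φ := by
    refine ⟨fun g g' h => ?_, fun r => ?_⟩
    · have h1 := congrArg (fun r : π.range => ((r • (⟨e, het⟩ : F) : F) : Ω))
        (congrArg Subtype.val h)
      have h2 : (g : G) • e = (g' : G) • e := h1
      refine Subtype.ext (inv_mul_eq_one.1 (X.D_free (mul_mem (inv_mem g'.2) g.2) het hea heb ?_)).symm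
      rw [mul_smul, h2, inv_smul_smul]
    · obtain ⟨g, hg⟩ := hlift r.1
      have hga : (g : G) • X.a = X.a := by
        rw [← hsm g a', hg, show (r : π.range) • a' = a' from r.2.1]
      have hgb : (g : G) • X.b = X.b := by
        rw [← hsm g b', hg, show (r : π.range) • b' = b' from r.2.2]
      rcases X.decomp_centralizer ⟨hga, hgb⟩ (hH.1 g.2) with h | h
      · exact ⟨⟨g, h⟩, Subtype.ext hg⟩
      · refine ⟨⟨_, h⟩, Subtype.ext ?_⟩
        show π.rangeRestrict _ = _
        rw [← hg]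
        refine Subtype.ext (Equiv.ext fun d => Subtype.ext ?_)
        show (X.t * (g : G)) • (d : Ω) = (g : G) • (d : Ω)
        rw [mul_smul]
        exact (g • d).2
  have hcard : Nat.card ↥(stabilizer π.range a' ⊓ stabilizer π.range b') = 5 * Nat.card X.C := by
    rw [← X.card_D, Nat.card_eq_of_bijective φ hφ]
  have htwo : ∀ c d : F, c ≠ d → ∃ r : π.range, r • a' = c ∧ r • b' = d := by
    intro c d hcd
    obtain ⟨g, hgt, hga, hgb⟩ := X.exists_centralizer c.2 d.2 fun h => hcd (Subtype.ext h)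
    exact ⟨π.rangeRestrict ⟨g, hH.2 hgt⟩, Subtype.ext hga, Subtype.ext hgb⟩
  let yr : π.range := π.rangeRestrict ⟨X.y, hH.2 X.ty.symm⟩
  have hy_ne : ∀ d : Ω, d ≠ X.a → d ≠ X.b → X.y • d ≠ d := fun d h1 h2 h => by
    rcases X.yfix d h with rfl | rfl
    exacts [h1 rfl, h2 rfl]
  have hZ : Cfsg.IsZassenhausGroup π.range F := by
    refine ⟨⟨fun {r r'} h => Subtype.ext (Equiv.ext h)⟩, ?_, ?_, ?_, ?_⟩
    · rw [MulAction.is_two_pretransitive_iff]
      intro c d c' d' hcd hcd'
      obtain ⟨r, hra, hrb⟩ := htwo c d hcd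
      obtain ⟨r', hra', hrb'⟩ := htwo c' d' hcd'
      exact ⟨r' * r⁻¹, by rw [mul_smul, ← hra, inv_smul_smul, hra'],
        by rw [mul_smul, ← hrb, inv_smul_smul, hrb']⟩
    · intro r c d d' hcd hdd hcd' hc hd hd'
      obtain ⟨r0, hra, hrb⟩ := htwo c d hcd
      have hconj : ∀ z : F, r • r0 • z = r0 • z → (r0⁻¹ * r * r0) • z = z := fun z hz => by
        rw [mul_smul, mul_smul, hz, inv_smul_smul]
      obtain ⟨g, hg⟩ := hφ.2 ⟨r0⁻¹ * r * r0, hconj a' (by rw [hra, hc]),
        hconj b' (by rw [hrb, hd])⟩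
      have hne : ∀ z : F, r0 • z ≠ d' → r0⁻¹ • d' ≠ z := fun z hz h => hz (by rw [← h, smul_inv_smul])
      have hg1 : (g : G) • ((r0⁻¹ • d' : F) : Ω) = ((r0⁻¹ • d' : F) : Ω) := by
        have h := congrArg (fun r : π.range => ((r • (r0⁻¹ • d') : F) : Ω))
          (congrArg Subtype.val hg)
        refine (show (g : G) • ((r0⁻¹ • d' : F) : Ω) = _ from h).trans (congrArg Subtype.val ?_)
        exact hconj _ (by rw [smul_inv_smul, hd'])
      have hg0 := X.D_free g.2 (r0⁻¹ • d' : F).2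
        (fun h => hne a' (by rw [hra]; exact hcd') (Subtype.ext h))
        (fun h => hne b' (by rw [hrb]; exact hdd) (Subtype.ext h)) hg1
      have h1 : r0⁻¹ * r * r0 = 1 := by
        refine (congrArg Subtype.val hg).symm.trans ?_
        show π.rangeRestrict _ = 1
        rw [show (⟨(g : G), hD g.2⟩ : H) = 1 from Subtype.ext hg0, map_one]
      calc r = r0 * (r0⁻¹ * r * r0) * r0⁻¹ := by group
        _ = 1 := by rw [h1]; group
    · refine ⟨yr, fun h => hy_ne e hea heb ?_, a', b', hab', Subtype.ext X.ya, Subtype.ext X.yb⟩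
      have h1 := congrArg (fun r : π.range => ((r • (⟨e, het⟩ : F) : F) : Ω)) h
      simp only [one_smul] at h1
      exact h1
    · intro N hN hNt
      by_contra hcon
      push Not at hcon
      obtain ⟨n, hn⟩ := hNt.exists_smul_eq a' b'
      have hy' : ∀ z : F, (z = a' ∨ z = b') → yr • z = z := by
        rintro z (rfl | rfl)
        exacts [Subtype.ext X.ya, Subtype.ext X.yb]
      have hm : (⟨yr * n.1 * yr⁻¹, hN.conj_mem _ n.2 _⟩ : N) = n := by
        have hfix : n⁻¹ * ⟨yr * n.1 * yr⁻¹, hN.conj_mem _ n.2 _⟩ ∈ stabilizer N a' := by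
          show n⁻¹ • (yr * n.1 * yr⁻¹) • a' = a'
          rw [mul_smul, mul_smul, inv_smul_eq_iff.2 (hy' a' (Or.inl rfl)).symm,
            show (n.1 • a' : F) = b' from hn, hy' b' (Or.inr rfl), inv_smul_eq_iff]
          exact hn.symm
        rw [hcon a', Subgroup.mem_bot] at hfix
        exact (inv_mul_eq_one.1 hfix).symm
      have hcomm : yr * n.1 = n.1 * yr := mul_inv_eq_iff_eq_mul.1 (congrArg Subtype.val hm)
      have hnb : n.1 • b' = a' := by
        have h1 : yr • n.1 • b' = n.1 • b' := by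
          rw [← mul_smul, hcomm, mul_smul, hy' b' (Or.inr rfl)]
        rcases X.yfix _ (congrArg Subtype.val h1) with h | h
        · exact Subtype.ext h
        · exfalso
          have h2 : n.1 • b' = n.1 • a' := by
            rw [show n.1 • a' = b' from hn]
            exact Subtype.ext h
          exact hab' (MulAction.injective _ h2).symm
      obtain ⟨g, hg⟩ := hlift n.1
      have hga : (g : G) • X.a = X.b := by
        rw [← hsm g a', hg]
        exact congrArg Subtype.val hn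
      have hgb : (g : G) • X.b = X.a := by
        rw [← hsm g b', hg, hnb]
      have hwg : X.w * g ∈ M2 G X.a X.b := by
        refine ⟨?_, ?_⟩
        · show (X.w * (g : G)) • X.a = X.a
          rw [mul_smul, hga, X.wb]
        · show (X.w * (g : G)) • X.b = X.b
          rw [mul_smul, hgb, X.wa]
      obtain ⟨i, x, hx, hm'⟩ := X.decomp hwg
      have hmy : Commute (X.w * (g : G)) X.y := by
        rcases hm' with h | h <;> rw [h]
        · exact (Commute.pow_self X.y _).mul_left (X.commute_y hx)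
        · exact Commute.mul_left X.ty ((Commute.pow_self X.y _).mul_left (X.commute_y hx))
      have hgy : (g : G) * X.y = X.y⁻¹ * g := by
        calc (g : G) * X.y = X.w⁻¹ * (X.w * g * X.y) := by group
          _ = X.w * (X.y * (X.w * g)) := by rw [hmy.eq, X.wi]
          _ = X.w * X.y * X.w⁻¹ * g := by rw [X.wi]; simp only [mul_assoc]
          _ = X.y⁻¹ * g := by rw [X.wy]
      have h3 : n.1 * yr = yr⁻¹ * n.1 := by
        rw [← hg, ← map_inv π.rangeRestrict, ← map_mul, ← map_mul]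
        exact congrArg _ (Subtype.ext hgy)
      rw [← hcomm] at h3
      have h4 : yr * yr = 1 := by
        rw [mul_right_cancel h3, ← mul_right_cancel h3]
        nth_rewrite 1 [mul_right_cancel h3]
        exact inv_mul_cancel _
      have h5 : (X.y * X.y) • e = e := by
        have h5' := congrArg (fun r : π.range => ((r • (⟨e, het⟩ : F) : F) : Ω)) h4
        simp only [mul_smul, one_smul] at h5'
        rw [mul_smul]
        exact h5'
      refine hy_ne e hea heb ?_
      have h6 : ((X.y * X.y) ^ 3) • e = e := Subgroup.pow_mem (stabilizer G e) h5 3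
      rwa [← pow_two, ← pow_mul, show 2 * 3 = 5 + 1 from rfl, pow_succ, X.y5, one_mul] at h6
  have hF : Nat.card F = X.f := Nat.card_coe_set_eq {d : Ω | X.t • d = d}
  rcases H66.Feit.ito_dichotomy _ rfl hZ hab'
    (by rw [hcard, Nat.odd_mul]; exact ⟨by decide, X.odd_C⟩) with h | ⟨-, h⟩
  · rw [hcard, hF] at h
    omega
  · rw [hF] at h
    exact absurd (X.even_f hu) (Nat.not_even_iff_odd.2 h)

theorem f_cases (hu : Odd A.u) : X.f = 2 ∨ X.f = 10 * Nat.card X.C + 2 := by
  obtain ⟨k, hk⟩ := X.dvd_f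
  have h2 := X.two_le_f
  rcases Nat.lt_or_ge 2 X.f with hf | hf
  · right
    have hle := X.f_le hu hf
    obtain ⟨m, hm⟩ := X.even_f hu
    have hc := Nat.odd_iff.1 X.odd_C
    have hk2 : k ≤ 2 := by
      by_contra hcon
      have := Nat.mul_le_mul_left (5 * Nat.card X.C) (show 3 ≤ k by omega)
      omega
    interval_cases k <;> omega
  · left
    omega

end Ctx

end H53.Eleven
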