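import Mathlib

/-!
General facts on an involution acting on a group of odd order.
-/

set_option autoImplicit false
set_option linter.style.haveILetI false
set_option linter.unusedSectionVars false

namespace H53.Eleven

open MulAction Pointwise

section Action

variable {G Ω : Type*} [Group G] [MulAction G Ω]

/-- A subgroup acting without fixed points on an invariant set has order dividing its size. -/
theorem card_dvd_of_free [Finite Ω] (H : Subgroup G) (S : Set Ω)
    (hS : ∀ g ∈ H, ∀ c ∈ S, g • c ∈ S) (hfree : ∀ g ∈ H, ∀ c ∈ S, g • c = c → g = 1) :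
    Nat.card H ∣ S.ncard := by
  let T : SubMulAction H Ω :=
    { carrier := S
      smul_mem' := fun g c hc => hS g g.2 c hc }
  have hT : ∀ c : T, MulAction.stabilizer H c = ⊥ := by
    intro c
    rw [eq_bot_iff]
    intro g hg
    rw [Subgroup.mem_bot]
    exact Subtype.ext (hfree g g.2 c c.2 (congrArg Subtype.val hg))
  have h := Nat.card_congr (MulAction.selfEquivOrbitsQuotientProd hT)
  rw [Nat.card_prod] at h
  rw [← Nat.card_coe_set_eq]
  exact ⟨_, h.trans (mul_comm _ _)⟩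

end Action

section Group

variable {G : Type*} [Group G]

theorem eq_sq_pow {z : G} (h : Odd (orderOf z)) : ∃ k : ℕ, z = (z * z) ^ k := by
  obtain ⟨k, hk⟩ := h
  refine ⟨k + 1, ?_⟩
  rw [← pow_two, ← pow_mul, show 2 * (k + 1) = orderOf z + 1 by omega, pow_succ,
    pow_orderOf_eq_one, one_mul]

/-- An element of odd order has a square root in the group it generates. -/
theorem exists_sqrt {x : G} (hodd : Odd (orderOf x)) :
    ∃ z ∈ Subgroup.zpowers x, z * z = x := by
  obtain ⟨k, hk⟩ := hodd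
  refine ⟨x ^ (k + 1), pow_mem (Subgroup.mem_zpowers x) _, ?_⟩
  rw [← pow_add, show k + 1 + (k + 1) = orderOf x + 1 by omega, pow_succ, pow_orderOf_eq_one,
    one_mul]

theorem commute_of_commute_sq {z d : G} (h : Odd (orderOf z)) (hc : Commute (z * z) d) :
    Commute z d := by
  obtain ⟨k, hk⟩ := eq_sq_pow h
  rw [hk]
  exact hc.pow_left k

/-- An element fixed by conjugation by an involution, made of `x` and its image. -/
theorem conj_mul_conj {t x : G} (tt : t * t = 1) (hc : x * (t * x * t⁻¹) = t * x * t⁻¹ * x) :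
    t * (x * (t * x * t⁻¹)) * t⁻¹ = x * (t * x * t⁻¹) := by
  have ti : t⁻¹ = t := inv_eq_of_mul_eq_one_right tt
  rw [ti] at hc ⊢
  calc t * (x * (t * x * t)) * t = t * x * t * x * (t * t) := by simp only [mul_assoc]
    _ = x * (t * x * t) := by rw [tt, mul_one, ← hc]

theorem conj_inv_of_inverted {t z : G} (h : t * z * t⁻¹ = z⁻¹) : t * z⁻¹ * t⁻¹ = z := by
  have := congrArg (fun g => g⁻¹) h
  simpa [mul_assoc] using this

/-- An element of the group generated by an inverted element is inverted. -/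
theorem inverted_of_mem_zpowers {t x z : G} (h : t * x * t⁻¹ = x⁻¹)
    (hz : z ∈ Subgroup.zpowers x) : t * z * t⁻¹ = z⁻¹ := by
  obtain ⟨i, rfl⟩ := Subgroup.mem_zpowers_iff.1 hz
  rw [← conj_zpow, h, inv_zpow]

variable [Finite G]

theorem odd_orderOf {V : Subgroup G} (hV : Odd (Nat.card V)) {x : G} (hx : x ∈ V) :
    Odd (orderOf x) :=
  hV.of_dvd_nat (Subgroup.orderOf_dvd_natCard V hx)

variable {V : Subgroup G} {t : G}

/-- The elements of `V` inverted by an involution `t` normalising `V`, times those centralised,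
make up `V`. -/
theorem card_inverted_mul (hV : Odd (Nat.card V)) (tt : t * t = 1)
    (hn : ∀ x ∈ V, t * x * t⁻¹ ∈ V) :
    Nat.card {x : G // x ∈ V ∧ t * x * t⁻¹ = x⁻¹} *
      Nat.card ↥(V ⊓ Subgroup.centralizer {t} : Subgroup G) = Nat.card V := by
  have ti : t⁻¹ = t := inv_eq_of_mul_eq_one_right tt
  have hC : ∀ {d : G}, d ∈ Subgroup.centralizer ({t} : Set G) ↔ t * d * t⁻¹ = d := fun {d} => by
    rw [Subgroup.mem_centralizer_singleton_iff, mul_inv_eq_iff_eq_mul, eq_comm]
  let f : {x : G // x ∈ V ∧ t * x * t⁻¹ = x⁻¹} ×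
      ↥(V ⊓ Subgroup.centralizer {t} : Subgroup G) → V :=
    fun p => ⟨(p.2 : G) * p.1.1, mul_mem p.2.2.1 p.1.2.1⟩
  have hinj : Function.Injective f := by
    rintro ⟨⟨z, hzV, hz⟩, ⟨d, hdV, hd⟩⟩ ⟨⟨z', hz'V, hz'⟩, ⟨d', hd'V, hd'⟩⟩ e
    have e' : d * z = d' * z' := congrArg Subtype.val e
    obtain ⟨g, hg⟩ : ∃ g, g = d'⁻¹ * d := ⟨_, rfl⟩
    have hgV : g ∈ V := hg ▸ mul_mem (inv_mem hd'V) hdV
    have hgC : t * g * t⁻¹ = g := hg ▸ hC.1 (mul_mem (inv_mem hd') hd)
    have hgz : g * z = z' := by rw [hg, mul_assoc, e', inv_mul_cancel_left]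
    have h1 : z * g * z⁻¹ = g⁻¹ := by
      have h2 : g * z⁻¹ = z⁻¹ * g⁻¹ := by
        calc g * z⁻¹ = t * g * t⁻¹ * (t * z * t⁻¹) := by rw [hgC, hz]
          _ = t * (g * z) * t⁻¹ := by group
          _ = z⁻¹ * g⁻¹ := by rw [hgz, hz', ← hgz, mul_inv_rev]
      rw [mul_assoc, h2, mul_inv_cancel_left]
    have hgg : Commute (z * z) g := by
      refine mul_inv_eq_iff_eq_mul.1 ?_
      calc z * z * g * (z * z)⁻¹ = z * (z * g * z⁻¹) * z⁻¹ := by group
        _ = z * g⁻¹ * z⁻¹ := by rw [h1]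
        _ = (z * g * z⁻¹)⁻¹ := by group
        _ = g := by rw [h1, inv_inv]
    have hc : Commute z g := commute_of_commute_sq (odd_orderOf hV hzV) hgg
    rw [hc.eq, mul_inv_cancel_right] at h1
    have hg1 : g = 1 := by
      obtain ⟨k, hk⟩ := eq_sq_pow (odd_orderOf hV hgV)
      rw [hk]
      nth_rewrite 1 [h1]
      rw [inv_mul_cancel, one_pow]
    rw [hg1, one_mul] at hgz
    rw [hg1] at hg
    obtain rfl := inv_mul_eq_one.1 hg.symm
    subst hgz
    rfl
  have hsurj : Function.Surjective f := by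
    rintro ⟨g, hg⟩
    obtain ⟨x, hxe⟩ : ∃ x, x = g⁻¹ * (t * g * t⁻¹) := ⟨_, rfl⟩
    have hxV : x ∈ V := hxe ▸ mul_mem (inv_mem hg) (hn g hg)
    have hx : t * x * t⁻¹ = x⁻¹ := by
      rw [hxe, ti]
      simp only [mul_inv_rev, inv_inv, ti, mul_assoc]
      rw [tt, mul_one]
    obtain ⟨z, hzx, hzz⟩ := exists_sqrt (odd_orderOf hV hxV)
    have hzV : z ∈ V := (Subgroup.zpowers_le.2 hxV) hzx
    have hz := inverted_of_mem_zpowers hx hzx
    refine ⟨⟨⟨z⁻¹, inv_mem hzV, ?_⟩, ⟨g * z, mul_mem hg hzV, hC.2 ?_⟩⟩, ?_⟩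
    · rw [conj_inv_of_inverted hz, inv_inv]
    · calc t * (g * z) * t⁻¹ = t * g * t⁻¹ * (t * z * t⁻¹) := by group
        _ = g * x * z⁻¹ := by rw [hz, hxe, mul_inv_cancel_left]
        _ = g * z := by rw [← hzz]; group
    · exact Subtype.ext (mul_inv_cancel_right g z)
  rw [← Nat.card_prod, Nat.card_congr (Equiv.ofBijective f ⟨hinj, hsurj⟩)]

/-- An involution normalising a group of odd order inverts an element of a prime order `p` of it,
if it centralises none and `p` is cyclic in it. -/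
theorem exists_inverted_prime {p : ℕ} [hp : Fact p.Prime] (hV : Odd (Nat.card V)) (tt : t * t = 1)
    (hn : ∀ x ∈ V, t * x * t⁻¹ ∈ V) (hfac : (Nat.card V).factorization p = 1)
    (hC : ∀ x ∈ V, orderOf x = p → t * x ≠ x * t) :
    ∃ x ∈ V, orderOf x = p ∧ t * x * t⁻¹ = x⁻¹ := by
  have ti : t⁻¹ = t := inv_eq_of_mul_eq_one_right tt
  have hinv : ∀ g : G, t * (t * g * t⁻¹) * t⁻¹ = g := fun g => by
    simp only [ti, mul_assoc]
    rw [tt, mul_one, ← mul_assoc, tt, one_mul]
  let φ : MulAut V :=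
    { toFun := fun x => ⟨t * x * t⁻¹, hn x x.2⟩
      invFun := fun x => ⟨t * x * t⁻¹, hn x x.2⟩
      left_inv := fun x => Subtype.ext (hinv x)
      right_inv := fun x => Subtype.ext (hinv x)
      map_mul' := fun x y => Subtype.ext (conj_mul.symm) }
  have hφ : φ * φ = 1 := MulEquiv.ext fun x => Subtype.ext (hinv x)
  haveI := Fintype.ofFinite (Sylow p V)
  obtain ⟨P, hP⟩ : ∃ P : Sylow p V, φ • P = P := by
    refine Equiv.Perm.exists_fixed_point_of_prime (p := 2) (n := 1) ?_
      (σ := MulAction.toPermHom (MulAut V) (Sylow p V) φ) ?_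
    · rw [← Nat.card_eq_fintype_card]
      exact fun h2 => Nat.not_even_iff_odd.2 hV
        (even_iff_two_dvd.2 ((h2.trans (Sylow.card_dvd_index _)).trans
          (Subgroup.index_dvd_card (default : Sylow p V).toSubgroup)))
    · rw [← map_pow, pow_one, pow_two, hφ, map_one]
  have hcard : Nat.card (P : Subgroup V) = p := by
    rw [Sylow.card_eq_multiplicity, hfac, pow_one]
  obtain ⟨⟨x, hx⟩, hxp⟩ := exists_prime_orderOf_dvd_card' p (dvd_of_eq hcard.symm)
  have hxp' : orderOf (x : G) = p := by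
    rw [Subgroup.orderOf_coe, ← hxp]
    exact (Subgroup.orderOf_mk x hx).symm
  refine ⟨x, x.2, hxp', ?_⟩
  have hy : φ x ∈ (P : Subgroup V) := by
    have h := Subgroup.smul_mem_pointwise_smul x φ (P : Subgroup V) hx
    rw [show φ • (P : Subgroup V) = P from congrArg Sylow.toSubgroup hP] at h
    exact h
  haveI : IsCyclic (P : Subgroup V) := isCyclic_of_prime_card hcard
  letI := IsCyclic.commGroup (α := (P : Subgroup V))
  have hcomm : (x : G) * (t * x * t⁻¹) = t * x * t⁻¹ * x := by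
    have h := mul_comm (⟨x, hx⟩ : (P : Subgroup V)) ⟨φ x, hy⟩
    exact congrArg (fun z : (P : Subgroup V) => ((z : V) : G)) h
  by_contra hne
  have h1 : (x : G) * (t * x * t⁻¹) ≠ 1 := fun h => hne (eq_inv_of_mul_eq_one_right h)
  have hmem : x * φ x ∈ (P : Subgroup V) := mul_mem hx hy
  have ho : orderOf ((x * φ x : V) : G) = p := by
    refine orderOf_eq_prime ?_ h1
    have h := Subgroup.orderOf_dvd_natCard _ hmem
    rw [hcard, orderOf_dvd_iff_pow_eq_one] at h
    rw [← SubmonoidClass.coe_pow, h, OneMemClass.coe_one]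
  exact hC _ (x * φ x).2 ho (mul_inv_eq_iff_eq_mul.1 (conj_mul_conj tt hcomm))

end Group

end H53.Eleven
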