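import Cfsg.Agent.H53.Eleven.General
import Cfsg.Agent.H66.Eleven.Swap

/-!
The two-point stabiliser in case A of S3403 when it contains an inverting involution.
-/

set_option autoImplicit false
set_option linter.style.haveILetI false
set_option linter.unusedSectionVars false

namespace H53.Eleven

open MulAction H63.Eleven H66.Eleven

universe u v

/-- A two-point stabiliser with the element of order five, a swapping involution and an inverting
involution. -/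
structure Ctx {G : Type u} {Ω : Type v} [Group G] [MulAction G Ω] (A : ACore G Ω) where
  a : Ω
  b : Ω
  hab : a ≠ b
  hodd : Odd A.v
  t : G
  tt : t * t = 1
  ta : t • a = a
  tb : t • b = b
  tW : t ∉ A.W a
  y : G
  w : G
  oy : orderOf y = 5
  ya : y • a = a
  yb : y • b = b
  yfix : ∀ d, y • d = d → d = a ∨ d = b
  xy : ∀ x : G, x ∈ A.W a → x • b = b → x * y = y * x
  yxfix : ∀ x : G, x ∈ A.W a → x • b = b → ∀ d, (y * x) • d = d → d = a ∨ d = b
  ty : t * y = y * t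
  ww : w * w = 1
  wa : w • a = b
  wb : w • b = a
  wy : w * y * w⁻¹ = y⁻¹
  wfix : ∀ d ∈ A.line a b, w • d ≠ d
  xw : ∀ x : G, x ∈ A.W a → x • b = b → x * w = w * x
  tw : t * w = w * t

variable {G : Type u} {Ω : Type v} [Group G] [Finite G] [MulAction G Ω] {A : ACore G Ω}

/-- The setting exists at every pair fixed by an inverting involution. -/
theorem exists_ctx (hodd : Odd A.v) {a b : Ω} (hab : a ≠ b) {t : G} (tt : t * t = 1)
    (ta : t • a = a) (tb : t • b = b) (tW : t ∉ A.W a) :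
    ∃ X : Ctx A, X.a = a ∧ X.b = b ∧ X.t = t := by
  obtain ⟨y, oy, ya, yb, yfix, xy, yxfix, ty, w, ww, wa, wb, wy, wfix, xw, -, tw⟩ :=
    A.exists_y a b hab
  exact ⟨⟨a, b, hab, hodd, t, tt, ta, tb, tW, y, w, oy, ya, yb, yfix, xy, yxfix, ty t tt ta tb, ww, wa,
    wb, wy, wfix, xw, tw t tt ta tb tW⟩, rfl, rfl, rfl⟩

namespace Ctx

variable (X : Ctx A)

/-- The two-point centraliser. -/
def V : Subgroup G := A.W X.a ⊓ MulAction.stabilizer G X.b

/-- Its part centralised by the involution. -/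
def C : Subgroup G := X.V ⊓ Subgroup.centralizer {X.t}

/-- Its elements inverted by the involution. -/
def I : Type u := {x : G // x ∈ X.V ∧ X.t * x * X.t⁻¹ = x⁻¹}

theorem card_V : Nat.card X.V = A.v := A.card_V X.a X.b X.hab

theorem odd_V : Odd (Nat.card X.V) := by rw [X.card_V]; exact X.hodd

theorem y5 : X.y ^ 5 = 1 := X.oy ▸ pow_orderOf_eq_one X.y

theorem ti : X.t⁻¹ = X.t := inv_eq_of_mul_eq_one_right X.tt

theorem wi : X.w⁻¹ = X.w := inv_eq_of_mul_eq_one_right X.ww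

theorem t_ne_one : X.t ≠ 1 := fun h => X.tW (h ▸ one_mem _)

theorem mem_V {x : G} : x ∈ X.V ↔ x ∈ A.W X.a ∧ x • X.b = X.b := Iff.rfl

theorem mem_C {x : G} : x ∈ X.C ↔ x ∈ X.V ∧ X.t * x = x * X.t := by
  rw [C, Subgroup.mem_inf, Subgroup.mem_centralizer_singleton_iff]
  exact Iff.rfl.and eq_comm

theorem mem_C' {x : G} : x ∈ X.C ↔ x ∈ X.V ∧ X.t * x * X.t⁻¹ = x := by
  rw [mem_C, mul_inv_eq_iff_eq_mul]

theorem commute_y {x : G} (hx : x ∈ X.V) : Commute x X.y := X.xy x hx.1 hx.2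

theorem commute_w {x : G} (hx : x ∈ X.V) : Commute x X.w := X.xw x hx.1 hx.2

theorem conj_mem_V (x : G) (hx : x ∈ X.V) : X.t * x * X.t⁻¹ ∈ X.V := by
  refine ⟨W_conj_fix A X.ta hx.1, ?_⟩
  show (X.t * x * X.t⁻¹) • X.b = X.b
  rw [X.ti, mul_smul, mul_smul, X.tb, (X.mem_V.1 hx).2, X.tb]

theorem card_I_mul : Nat.card X.I * Nat.card X.C = A.v := by
  rw [← X.card_V]
  exact card_inverted_mul X.odd_V X.tt X.conj_mem_V

theorem odd_C : Odd (Nat.card X.C) :=
  X.hodd.of_dvd_nat ⟨_, (X.card_I_mul.symm.trans (mul_comm _ _))⟩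

/-- The product of two elements `y ^ i * x`. -/
theorem ypow_mul {i j : Fin 5} {x x' : G} (hx : x ∈ X.V) :
    X.y ^ (i : ℕ) * x * (X.y ^ (j : ℕ) * x') = X.y ^ ((i + j : Fin 5) : ℕ) * (x * x') := by
  rw [pow_fin_add X.y5, mul_assoc, ← mul_assoc x, ((X.commute_y hx).pow_right _).eq]
  simp only [mul_assoc]

theorem ypow_inj {i j : Fin 5} {x x' : G} (hx : x ∈ X.V) (hx' : x' ∈ X.V)
    (h : X.y ^ (i : ℕ) * x = X.y ^ (j : ℕ) * x') : i = j ∧ x = x' :=
  ypow_mul_inj A X.hab X.oy X.yb X.yfix hx.1 hx'.1 h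

theorem ypow_one {i : Fin 5} {x : G} (hx : x ∈ X.V) (h : X.y ^ (i : ℕ) * x = 1) :
    i = 0 ∧ x = 1 :=
  X.ypow_inj hx (one_mem _) (by simpa using h)

/-- An element `y ^ i * x` times a conjugate of it is one only if `i = 0`. -/
theorem ypow_sq {i : Fin 5} {x x' : G} (hx : x ∈ X.V) (hx' : x' ∈ X.V)
    (h : X.y ^ (i : ℕ) * x * (X.y ^ (i : ℕ) * x') = 1) : i = 0 ∧ x * x' = 1 := by
  rw [X.ypow_mul hx] at h
  obtain ⟨h1, h2⟩ := X.ypow_one (mul_mem hx hx') h
  exact ⟨(by decide : ∀ i : Fin 5, i + i = 0 → i = 0) i h1, h2⟩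

theorem sq_one {x : G} (hx : x ∈ X.V) (h : x * x = 1) : x = 1 :=
  sq_eq_one_of_odd A X.hodd X.hab hx.1 hx.2 h

theorem t_ne (i : Fin 5) {x : G} (hx : x ∈ X.V) : X.t ≠ X.y ^ (i : ℕ) * x := by
  intro h
  have h2 := X.tt
  rw [h] at h2
  obtain ⟨hi, hxx⟩ := X.ypow_sq hx hx h2
  refine X.t_ne_one ?_
  rw [h, hi, X.sq_one hx hxx]
  simp

theorem y_mem_M : X.y ∈ M2 G X.a X.b := ⟨X.ya, X.yb⟩

theorem V_le_M : X.V ≤ M2 G X.a X.b := fun _ hx => ⟨A.W_le _ hx.1, hx.2⟩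

theorem t_mem_M : X.t ∈ M2 G X.a X.b := ⟨X.ta, X.tb⟩

theorem card_M : Nat.card (M2 G X.a X.b) = 10 * A.v := by
  rcases card_M_cases A X.hab with h | h
  · obtain ⟨i, x, hx, hxb, hm⟩ := M_decomp A X.hab h X.oy X.ya X.yb X.yfix X.t_mem_M
    exact absurd hm (X.t_ne i ⟨hx, hxb⟩)
  · exact h

/-- The two-point stabiliser. -/
theorem decomp {m : G} (hm : m ∈ M2 G X.a X.b) :
    ∃ (i : Fin 5) (x : G), x ∈ X.V ∧
      (m = X.y ^ (i : ℕ) * x ∨ m = X.t * (X.y ^ (i : ℕ) * x)) := by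
  let f : Bool × Fin 5 × X.V → M2 G X.a X.b := fun p =>
    ⟨(if p.1 then X.t else 1) * (X.y ^ (p.2.1 : ℕ) * p.2.2),
      mul_mem (by split <;> [exact X.t_mem_M; exact one_mem _])
        (mul_mem (pow_mem X.y_mem_M _) (X.V_le_M p.2.2.2))⟩
  have hcross : ∀ (i j : Fin 5) (x x' : X.V),
      X.t * (X.y ^ (i : ℕ) * x) ≠ X.y ^ (j : ℕ) * x' := by
    intro i j x x' h
    refine X.t_ne (-i + j) (mul_mem x'.2 (inv_mem x.2)) ?_
    refine mul_right_cancel (b := X.y ^ (i : ℕ) * x) (h.trans ?_)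
    rw [X.ypow_mul (mul_mem x'.2 (inv_mem x.2)), inv_mul_cancel_right,
      show -i + j + i = j by abel]
  have hinj : Function.Injective f := by
    rintro ⟨e, i, x⟩ ⟨e', j, x'⟩ h
    have h' := congrArg Subtype.val h
    cases e <;> cases e' <;> simp only [f, Bool.false_eq_true, if_false, if_true, one_mul] at h'
    · obtain ⟨rfl, hx⟩ := X.ypow_inj x.2 x'.2 h'
      exact Prod.ext rfl (Prod.ext rfl (Subtype.ext hx))
    · exact absurd h'.symm (hcross _ _ _ _)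
    · exact absurd h' (hcross _ _ _ _)
    · obtain ⟨rfl, hx⟩ := X.ypow_inj x.2 x'.2 (mul_left_cancel h')
      exact Prod.ext rfl (Prod.ext rfl (Subtype.ext hx))
  have hbij : Function.Bijective f :=
    hinj.bijective_of_nat_card_le (by
      rw [X.card_M, Nat.card_prod, Nat.card_prod, Nat.card_fin, X.card_V, Nat.card_eq_fintype_card,
        Fintype.card_bool]
      omega)
  obtain ⟨⟨e, i, x⟩, hix⟩ := hbij.2 ⟨m, hm⟩
  have h' := congrArg Subtype.val hix
  refine ⟨i, x, x.2, ?_⟩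
  cases e <;> simp only [f, Bool.false_eq_true, if_false, if_true, one_mul] at h'
  · exact Or.inl h'.symm
  · exact Or.inr h'.symm

/-- The square of an element `t * y ^ i * x`. -/
theorem t_sq (i : Fin 5) (x : G) :
    X.t * (X.y ^ (i : ℕ) * x) * (X.t * (X.y ^ (i : ℕ) * x)) =
      X.y ^ (i : ℕ) * (X.t * x * X.t⁻¹) * (X.y ^ (i : ℕ) * x) := by
  rw [X.ti, ← mul_assoc X.t (X.y ^ _) x, (Commute.pow_right X.ty _).eq]
  simp only [mul_assoc]
  congr 3
  rw [← mul_assoc X.t, (Commute.pow_right X.ty _).eq]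
  simp only [mul_assoc]

/-- The involutions of the two-point stabiliser. -/
theorem invol_M {m : G} (hm : m ∈ M2 G X.a X.b) (h : m * m = 1) (h1 : m ≠ 1) :
    ∃ x, x ∈ X.V ∧ X.t * x * X.t⁻¹ = x⁻¹ ∧ m = X.t * x := by
  obtain ⟨i, x, hx, rfl | rfl⟩ := X.decomp hm
  · obtain ⟨rfl, hxx⟩ := X.ypow_sq hx hx h
    exact absurd (by simp [X.sq_one hx hxx]) h1
  · rw [X.t_sq] at h
    obtain ⟨rfl, hxx⟩ := X.ypow_sq (X.conj_mem_V x hx) hx h
    exact ⟨x, hx, eq_inv_of_mul_eq_one_left hxx, by simp⟩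

/-- The involution times an inverted element is a conjugate of it. -/
theorem exists_conj {x : G} (hx : x ∈ X.V) (h : X.t * x * X.t⁻¹ = x⁻¹) :
    ∃ z ∈ X.V, z⁻¹ * X.t * z = X.t * x := by
  obtain ⟨z, hzx, hzz⟩ := exists_sqrt (odd_orderOf X.odd_V hx)
  refine ⟨z, (Subgroup.zpowers_le.2 hx) hzx, ?_⟩
  have hz := conj_inv_of_inverted (inverted_of_mem_zpowers h hzx)
  calc z⁻¹ * X.t * z = X.t * (X.t⁻¹ * z⁻¹ * X.t) * z := by group
    _ = X.t * z * z := by rw [X.ti]; rw [X.ti] at hz; rw [hz]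
    _ = X.t * x := by rw [mul_assoc, hzz]

/-- The involution inverts the point. -/
theorem inv_P {p : G} (hp : p ∈ A.P X.a) : X.t * p * X.t⁻¹ = p⁻¹ := by
  have hP : A.P X.a = cj X.t (A.P X.a) := by rw [← A.P_conj, X.ta]
  have hp' : X.t * p * X.t⁻¹ ∈ A.P X.a := by
    rw [hP, mem_cj]
    simpa [mul_assoc] using hp
  have hcomm : p * (X.t * p * X.t⁻¹) = X.t * p * X.t⁻¹ * p :=
    (A.W_iff X.a p).1 (A.P_le X.a hp) _ hp'
  by_contra hne
  refine X.tW ((A.W_iff X.a X.t).2 fun r hr => ?_)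
  have h1 : p * (X.t * p * X.t⁻¹) ≠ 1 := fun h => hne (eq_inv_of_mul_eq_one_right h)
  have hle : Subgroup.zpowers (p * (X.t * p * X.t⁻¹)) = A.P X.a := by
    refine Subgroup.eq_of_le_of_card_ge (Subgroup.zpowers_le.2 (mul_mem hp hp')) ?_
    have h := Subgroup.orderOf_dvd_natCard _ (mul_mem hp hp')
    rw [A.card_P] at h ⊢
    rw [Nat.card_zpowers]
    rcases (Nat.dvd_prime (by norm_num)).1 h with h' | h'
    · exact absurd (orderOf_eq_one_iff.1 h') h1
    · exact h'.ge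
  rw [← hle, Subgroup.mem_zpowers_iff] at hr
  obtain ⟨k, rfl⟩ := hr
  have hc : Commute X.t (p * (X.t * p * X.t⁻¹)) :=
    mul_inv_eq_iff_eq_mul.1 (conj_mul_conj X.tt hcomm)
  exact (hc.zpow_right k).eq

/-- The involution fixes two points of the line. -/
theorem fix_line {d : Ω} (hd : d ∈ A.line X.a X.b) (h : X.t • d = d) : d = X.a ∨ d = X.b := by
  haveI := finiteΩ A
  refine or_iff_not_imp_left.2 fun hda => ?_
  have hpne : ∀ p : G, p ∈ A.P X.a → p • X.b ≠ X.a := fun p hp h' =>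
    X.hab (MulAction.injective p
      (show p • X.a = p • X.b by rw [smul_of_mem A (A.P_le _ hp), h']))
  let f : A.P X.a → ↥(A.line X.a X.b \ {X.a}) := fun p =>
    ⟨(p : G) • X.b, A.P_line _ _ _ X.hab p.2, hpne _ p.2⟩
  have hinj : Function.Injective f := by
    intro p r e
    have e' : (p : G) • X.b = (r : G) • X.b := congrArg Subtype.val e
    by_contra hne
    refine X.hab (A.P_fix X.a X.b ((r : G)⁻¹ * p) (mul_mem (inv_mem r.2) p.2)
      (fun h0 => hne (Subtype.ext (inv_mul_eq_one.1 h0).symm)) ?_).symm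
    rw [mul_smul, e', inv_smul_smul]
  have hbij : Function.Bijective f := by
    refine (Nat.bijective_iff_injective_and_card f).2 ⟨hinj, ?_⟩
    rw [A.card_P, Nat.card_coe_set_eq,
      Set.ncard_sdiff_singleton_of_mem (A.line_left _ _ X.hab), ← Nat.card_coe_set_eq,
      A.line_card _ _ X.hab]
  obtain ⟨⟨p, hp⟩, hpd⟩ := hbij.2 ⟨d, hd, hda⟩
  have hpd' : p • X.b = d := congrArg Subtype.val hpd
  have h' : p⁻¹ • X.b = p • X.b := by
    have h2 : (X.t * p * X.t⁻¹) • X.b = p⁻¹ • X.b := by rw [X.inv_P hp]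
    rw [X.ti, mul_smul, mul_smul, X.tb, hpd', h] at h2
    rw [← h2, hpd']
  have h2 : (p * p) • X.b = X.b := by rw [mul_smul, ← h', smul_inv_smul]
  have hpp : p * p = 1 := by
    by_contra hne
    exact X.hab (A.P_fix _ _ _ (mul_mem hp hp) hne h2).symm
  have hp1 : p = 1 := by
    rw [← orderOf_eq_one_iff]
    have h1 := Subgroup.orderOf_dvd_natCard _ hp
    rw [A.card_P] at h1
    have h3 := Nat.dvd_gcd h1 (orderOf_dvd_of_pow_eq_one (by rw [pow_two]; exact hpp))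
    norm_num at h3
    rw [h3]
    exact orderOf_one
  rw [← hpd', hp1, one_smul]

/-- An element `y ^ i * x` with `x` centralised fixes no further fixed point of the involution. -/
theorem free {i : Fin 5} {x : G} (hx : x ∈ X.C) {d : Ω} (htd : X.t • d = d) (hda : d ≠ X.a)
    (hdb : d ≠ X.b) (h : (X.y ^ (i : ℕ) * x) • d = d) : i = 0 ∧ x = 1 := by
  have hxV := (X.mem_C.1 hx).1
  by_cases hi : i = 0
  · refine ⟨hi, ?_⟩
    by_contra hx1
    rw [hi] at h
    simp only [Fin.val_zero, pow_zero, one_mul] at h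
    rcases X.fix_line ((A.V_fix X.a X.b x X.hab hxV.1 hxV.2 hx1 d).1 h) htd with e | e
    exacts [hda e, hdb e]
  exfalso
  have h6 : ∀ j : ℕ, (X.y ^ (i : ℕ) * x) ^ j • d = d := fun j =>
    Subgroup.pow_mem (MulAction.stabilizer G d) h j
  obtain ⟨j, hj⟩ : ∃ j : Fin 5, i * j = 1 :=
    (by decide : ∀ i : Fin 5, i ≠ 0 → ∃ j : Fin 5, i * j = 1) i hi
  have hy : (X.y ^ (i : ℕ)) ^ (j : ℕ) = X.y := by
    rw [← pow_mul, pow_eq_pow_mod _ X.y5, ← Fin.val_mul, hj]
    exact pow_one _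
  have h7 := h6 j
  rw [(((X.commute_y hxV).pow_right _).symm).mul_pow, hy] at h7
  have hxj := pow_mem hxV (j : ℕ)
  rcases X.yxfix _ hxj.1 hxj.2 d h7 with e | e
  exacts [hda e, hdb e]

end Ctx

end H53.Eleven
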