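import Cfsg.Agent.H53.Eleven.Fixed
import Cfsg.Agent.H53.Eleven.Arith
import Cfsg.Agent.H25.Eleven.ClassCount

/-!
An inverting involution centralising no element of order eleven is impossible in case A of S3403.
-/

set_option autoImplicit false
set_option linter.style.haveILetI false
set_option linter.unusedSectionVars false

namespace H53.Eleven

open MulAction H63.Eleven H66.Eleven H25.Eleven

universe u v

namespace Ctx

variable {G : Type u} {Ω : Type v} [Group G] [Finite G] [MulAction G Ω] {A : ACore G Ω}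
  (X : Ctx A)

/-- The normal complement of an element of order eleven in the two-point centraliser. -/
theorem exists_Q {q : ℕ} (hq : A.v = 11 * q) (hq11 : ¬ 11 ∣ q)
    (hN : ∀ x : G, x ∈ A.W X.a → x • X.b = X.b → orderOf x = 11 →
      ∀ g : G, g ∈ A.W X.a → g • X.b = X.b → g * x * g⁻¹ ∈ Subgroup.zpowers x →
        g ∈ Subgroup.zpowers x)
    (h : ∀ x : G, x ∈ A.W X.a → x • X.b = X.b → orderOf x = 11 → X.t * x ≠ x * X.t) :
    ∃ Q : Subgroup G, Q ≤ X.V ∧ Nat.card Q = q ∧ X.C ≤ Q ∧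
      Nat.card X.C * Nat.card X.C ≤ q := by
  haveI : Fact (Nat.Prime 11) := ⟨by norm_num⟩
  have hq0 : q ≠ 0 := by rintro rfl; exact hq11 (dvd_zero _)
  have hfac : (Nat.card X.V).factorization 11 = 1 := by
    rw [X.card_V, hq, Nat.factorization_mul (by norm_num) hq0, Finsupp.add_apply,
      Nat.Prime.factorization_self (by norm_num), Nat.factorization_eq_zero_of_not_dvd hq11]
  obtain ⟨x, hxV, hxo, hxi⟩ := exists_inverted_prime (p := 11) X.odd_V X.tt X.conj_mem_V hfac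
    fun x hx ho => h x hx.1 hx.2 ho
  let x' : X.V := ⟨x, hxV⟩
  let P : Sylow 11 X.V := Sylow.ofCard (Subgroup.zpowers x') (by
    rw [Nat.card_zpowers, hfac, pow_one, ← Subgroup.orderOf_coe]
    exact hxo)
  have hP : (P : Subgroup X.V) = Subgroup.zpowers x' := Sylow.coe_ofCard _ _
  have hPN : Subgroup.normalizer ((P : Subgroup X.V) : Set X.V) ≤
      Subgroup.centralizer ((P : Subgroup X.V) : Set X.V) := by
    intro g hg
    rw [Subgroup.mem_normalizer_iff] at hg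
    have h1 : g * x' * g⁻¹ ∈ (P : Subgroup X.V) :=
      (hg x').1 (by rw [hP]; exact Subgroup.mem_zpowers x')
    rw [hP, Subgroup.mem_zpowers_iff] at h1
    obtain ⟨k, hk⟩ := h1
    have h2 := hN x hxV.1 hxV.2 hxo g g.2.1 g.2.2
      (Subgroup.mem_zpowers_iff.2 ⟨k, congrArg Subtype.val hk⟩)
    obtain ⟨l, hl⟩ := Subgroup.mem_zpowers_iff.1 h2
    have hg' : g = x' ^ l := Subtype.ext hl.symm
    rw [Subgroup.mem_centralizer_iff]
    intro z hz
    rw [SetLike.mem_coe, hP, Subgroup.mem_zpowers_iff] at hz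
    obtain ⟨m, rfl⟩ := hz
    rw [hg', ← zpow_add, ← zpow_add, add_comm]
  have hcompl := MonoidHom.ker_transferSylow_isComplement' P hPN
  obtain ⟨Q', hQ'⟩ : ∃ Q' : Subgroup X.V, Q' = (MonoidHom.transferSylow P hPN).ker := ⟨_, rfl⟩
  rw [← hQ'] at hcompl
  have hPcard : Nat.card (P : Subgroup X.V) = 11 := by
    rw [hP, Nat.card_zpowers, ← Subgroup.orderOf_coe]
    exact hxo
  have hQcard : Nat.card Q' = q := by
    have h1 := hcompl.card_mul_card
    rw [hPcard, X.card_V, hq] at h1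
    omega
  have hQle : Q'.map X.V.subtype ≤ X.V := Subgroup.map_subtype_le Q'
  have hCle : X.C ≤ Q'.map X.V.subtype := by
    intro g hg
    obtain ⟨hgV, hgt⟩ := X.mem_C.1 hg
    refine ⟨⟨g, hgV⟩, ?_, rfl⟩
    show (⟨g, hgV⟩ : X.V) ∈ Q'
    rw [hQ', MonoidHom.mem_ker]
    by_contra hne
    have h11 : orderOf (MonoidHom.transferSylow P hPN ⟨g, hgV⟩) = 11 := by
      have h1 := orderOf_dvd_natCard (MonoidHom.transferSylow P hPN ⟨g, hgV⟩)
      rcases (Nat.dvd_prime (by norm_num)).1 (h1.trans (dvd_of_eq hPcard)) with e | e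
      · exact absurd (orderOf_eq_one_iff.1 e) hne
      · exact e
    have h2 : 11 ∣ orderOf g := by
      rw [← h11, ← Subgroup.orderOf_mk g hgV]
      exact orderOf_map_dvd _ _
    obtain ⟨m, hm⟩ := h2
    have hgm : orderOf (g ^ m) = 11 := by
      have hm0 : m ≠ 0 := by
        rintro rfl
        exact (orderOf_pos g).ne' (by omega)
      rw [orderOf_pow_of_dvd hm0 ⟨11, by rw [hm, mul_comm]⟩, hm,
        Nat.mul_div_cancel _ (Nat.pos_of_ne_zero hm0)]
    exact h _ (pow_mem hgV.1 _) (pow_mem hgV m).2 hgm (Commute.pow_right hgt m).eq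
  have hinter : ∀ g ∈ X.C, x⁻¹ * g * x ∈ X.C → g = 1 := by
    intro g hg hg'
    obtain ⟨hgV, hgt⟩ := X.mem_C'.1 hg
    have e := (X.mem_C'.1 hg').2
    have e' : X.t * (x⁻¹ * g * x) * X.t⁻¹ = x * g * x⁻¹ := by
      calc X.t * (x⁻¹ * g * x) * X.t⁻¹
          = X.t * x⁻¹ * X.t⁻¹ * (X.t * g * X.t⁻¹) * (X.t * x * X.t⁻¹) := by group
        _ = x * g * x⁻¹ := by rw [conj_inv_of_inverted hxi, hgt, hxi]
    rw [e] at e'
    have hxx : Commute (x * x) g := by
      refine mul_inv_eq_iff_eq_mul.1 ?_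
      calc x * x * g * (x * x)⁻¹ = x * (x * g * x⁻¹) * x⁻¹ := by group
        _ = x * (x⁻¹ * g * x) * x⁻¹ := by rw [← e']
        _ = g := by group
    have hxg : Commute x g := commute_of_commute_sq (hxo ▸ by decide) hxx
    have h2 := hN x hxV.1 hxV.2 hxo g hgV.1 hgV.2
      (by rw [← hxg.eq, mul_inv_cancel_right]; exact Subgroup.mem_zpowers x)
    have h3 : X.t * g * X.t⁻¹ = g⁻¹ := inverted_of_mem_zpowers hxi h2
    exact X.sq_one hgV (by rw [← hgt]; nth_rewrite 1 [h3]; rw [hgt, inv_mul_cancel])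
  refine ⟨Q'.map X.V.subtype, hQle, ?_, hCle, ?_⟩
  · rw [Subgroup.card_map_of_injective X.V.subtype_injective, hQcard]
  haveI hnormal : Q'.Normal := hQ' ▸ MonoidHom.normal_ker _
  have hCQ : ∀ {g : G} (hg : g ∈ X.C), (⟨g, (X.mem_C.1 hg).1⟩ : X.V) ∈ Q' := by
    intro g hg
    obtain ⟨z, hz, hzg⟩ := hCle hg
    rwa [← show z = ⟨g, (X.mem_C.1 hg).1⟩ from Subtype.ext hzg]
  rw [← Nat.card_prod, ← hQcard]
  refine Nat.card_le_card_of_injective
    (fun p : X.C × X.C =>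
      (⟨⟨p.1, (X.mem_C.1 p.1.2).1⟩ * (x' * ⟨p.2, (X.mem_C.1 p.2.2).1⟩ * x'⁻¹),
        mul_mem (hCQ p.1.2) (hnormal.conj_mem _ (hCQ p.2.2) _)⟩ : Q')) ?_
  rintro ⟨⟨g₁, h₁⟩, ⟨g₂, h₂⟩⟩ ⟨⟨k₁, l₁⟩, ⟨k₂, l₂⟩⟩ e
  have e' : g₁ * (x * g₂ * x⁻¹) = k₁ * (x * k₂ * x⁻¹) :=
    congrArg (fun z : Q' => ((z : X.V) : G)) e
  have h3 : k₁⁻¹ * g₁ = x * (k₂ * g₂⁻¹) * x⁻¹ := by
    calc k₁⁻¹ * g₁ = k₁⁻¹ * (g₁ * (x * g₂ * x⁻¹)) * (x * g₂⁻¹ * x⁻¹) := by group
      _ = x * (k₂ * g₂⁻¹) * x⁻¹ := by rw [e']; group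
  have h4 : k₁⁻¹ * g₁ = 1 := by
    refine hinter _ (mul_mem (inv_mem l₁) h₁) ?_
    rw [h3, show x⁻¹ * (x * (k₂ * g₂⁻¹) * x⁻¹) * x = k₂ * g₂⁻¹ by group]
    exact mul_mem l₂ (inv_mem h₂)
  rw [h4] at h3
  have h5 : k₂ * g₂⁻¹ = 1 := by
    calc k₂ * g₂⁻¹ = x⁻¹ * (x * (k₂ * g₂⁻¹) * x⁻¹) * x := by group
      _ = 1 := by rw [← h3]; group
  obtain rfl := inv_mul_eq_one.1 h4
  obtain rfl := mul_inv_eq_one.1 h5
  rfl

/-- An elementwise commuting product with the point is semiregular off the line. -/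
theorem q_dvd {q : ℕ} {Q : Subgroup G} (hQV : Q ≤ X.V) (hQ : Nat.card Q = q) (hq11 : ¬ 11 ∣ q) :
    q ∣ A.u - 1 := by
  haveI := finiteΩ A
  have hcomm : ∀ (g : Q) (p : A.P X.a), Commute (g : G) (p : G) := fun g p =>
    (A.W_iff X.a g).1 (hQV g.2).1 p p.2
  let φ : Q × A.P X.a →* G := MonoidHom.noncommCoprod Q.subtype (A.P X.a).subtype hcomm
  have hφ : Function.Injective φ := by
    rw [injective_iff_map_eq_one]
    rintro ⟨g, p⟩ hgp
    have hgp' : (g : G) * p = 1 := hgp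
    have hp : (p : G) = 1 := by
      by_contra hne
      refine X.hab (A.P_fix X.a X.b p p.2 hne ?_).symm
      rw [eq_inv_of_mul_eq_one_right hgp']
      exact (inv_mem (hQV g.2)).2
    rw [hp, mul_one] at hgp'
    exact Prod.ext (Subtype.ext hgp') (Subtype.ext hp)
  have hline : ∀ g ∈ X.V, ∀ d ∈ A.line X.a X.b, g • d = d := by
    intro g hg d hd
    by_cases h1 : g = 1
    · rw [h1, one_smul]
    · exact (A.V_fix X.a X.b g X.hab hg.1 hg.2 h1 d).2 hd
  have hPline : ∀ p ∈ A.P X.a, ∀ d ∈ A.line X.a X.b, p • d ∈ A.line X.a X.b := by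
    intro p hp d hd
    rcases eq_or_ne d X.a with rfl | hda
    · rw [smul_of_mem A (A.P_le _ hp)]
      exact hd
    · have h := A.P_line X.a d p (Ne.symm hda) hp
      rwa [A.line_eq X.a X.b X.a d X.hab (A.line_left _ _ X.hab) hd (Ne.symm hda)] at h
  have hdvd : Nat.card φ.range ∣ (A.line X.a X.b)ᶜ.ncard := by
    refine card_dvd_of_free φ.range _ ?_ ?_
    · intro k hk d hd hkd
      obtain ⟨⟨g, p⟩, hgp⟩ := inv_mem hk
      have hgp' : (g : G) * p = k⁻¹ := hgp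
      refine hd ?_
      rw [← inv_smul_smul k d, ← hgp', mul_smul, hline _ (hQV g.2) _ (hPline _ p.2 _ hkd)]
      exact hPline _ p.2 _ hkd
    · rintro _ ⟨⟨g, p⟩, rfl⟩ d hd h
      have h' : ((g : G) * p) • d = d := h
      have h11 : ((g : G) * p) ^ 11 • d = d := Subgroup.pow_mem (stabilizer G d) h' 11
      have hp11 : (p : G) ^ 11 = 1 := orderOf_dvd_iff_pow_eq_one.1
        ((Subgroup.orderOf_dvd_natCard _ p.2).trans (dvd_of_eq (A.card_P _)))
      rw [(hcomm g p).mul_pow, hp11, mul_one] at h11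
      have hg11 : (g : G) ^ 11 = 1 := by
        by_contra hne
        exact hd ((A.V_fix X.a X.b _ X.hab (pow_mem (hQV g.2).1 _) (pow_mem (hQV g.2) _).2 hne
          d).1 h11)
      have hg1 : (g : G) = 1 := by
        rw [← orderOf_eq_one_iff]
        rcases (Nat.dvd_prime (by norm_num)).1 (orderOf_dvd_of_pow_eq_one hg11) with e | e
        · exact e
        · exfalso
          refine hq11 ?_
          rw [← hQ, ← e]
          exact Subgroup.orderOf_dvd_natCard _ g.2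
      show (g : G) * p = 1
      rw [hg1, one_mul] at h' ⊢
      by_contra hne
      rw [A.P_fix X.a d p p.2 hne h'] at hd
      exact hd (A.line_left _ _ X.hab)
  rw [← Nat.card_congr (MonoidHom.ofInjective hφ).toEquiv, Nat.card_prod, hQ, A.card_P,
    Set.ncard_compl, ← Nat.card_coe_set_eq, A.line_card _ _ X.hab, A.card_points] at hdvd
  refine Nat.Coprime.dvd_of_dvd_mul_left (k := q) (n := A.u - 1) (m := 11) ?_ ?_
  · exact ((Nat.Prime.coprime_iff_not_dvd (by norm_num)).2 hq11).symm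
  · refine (dvd_mul_right q 11).trans ?_
    rw [Nat.mul_sub_one, show 11 * A.u - 11 = 11 * A.u + 1 - 12 by omega]
    exact hdvd

/-- The class of the involution. -/
def T : Set G := {g | ∃ k : G, k * X.t * k⁻¹ = g}

theorem T_conj : ∀ h g : G, g ∈ X.T → h * g * h⁻¹ ∈ X.T := by
  rintro h _ ⟨k, rfl⟩
  exact ⟨h * k, by group⟩

theorem t_mem_T : X.t ∈ X.T := ⟨1, by group⟩

theorem T_sq : ∀ g ∈ X.T, g * g = 1 := by
  rintro _ ⟨k, rfl⟩
  rw [show k * X.t * k⁻¹ * (k * X.t * k⁻¹) = k * (X.t * X.t) * k⁻¹ by group, X.tt]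
  group

theorem T_fix : ∀ g ∈ X.T, Nat.card {d : Ω // g • d = d} = X.f := by
  rintro _ ⟨k, rfl⟩
  rw [f, ← Nat.card_coe_set_eq]
  refine Nat.card_congr (Equiv.subtypeEquiv (MulAction.toPerm k⁻¹) fun d => ?_)
  show (k * X.t * k⁻¹) • d = d ↔ X.t • k⁻¹ • d = k⁻¹ • d
  rw [mul_smul, mul_smul]
  exact ⟨fun h => by nth_rewrite 2 [← h]; rw [inv_smul_smul],
    fun h => by rw [h, smul_inv_smul]⟩

theorem card_fixers : Nat.card (fixers X.T X.a X.b) = Nat.card X.I := by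
  refine (Nat.card_eq_of_bijective (fun x : X.I => (⟨X.t * x.1, ?_, ?_, ?_⟩ :
    fixers X.T X.a X.b)) ⟨?_, ?_⟩).symm
  · obtain ⟨z, -, hz⟩ := X.exists_conj x.2.1 x.2.2
    exact ⟨z⁻¹, by rw [inv_inv, hz]⟩
  · rw [mul_smul, (X.V_le_M x.2.1).1, X.ta]
  · rw [mul_smul, (X.V_le_M x.2.1).2, X.tb]
  · intro x x' e
    exact Subtype.ext (mul_left_cancel (congrArg Subtype.val e))
  · rintro ⟨g, hg, hga, hgb⟩
    have hne : g ≠ 1 := by
      obtain ⟨k, rfl⟩ := hg
      intro h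
      exact X.t_ne_one (conj_eq_one_iff.1 h)
    obtain ⟨x, hx, hxi, rfl⟩ := X.invol_M ⟨hga, hgb⟩ (X.T_sq g hg) hne
    exact ⟨⟨x, hx, hxi⟩, rfl⟩

theorem wyw (i : ℕ) : X.w * X.y ^ i * X.w = (X.y ^ i)⁻¹ := by
  have h : (X.w * X.y * X.w⁻¹) ^ i = X.w * X.y ^ i * X.w⁻¹ := conj_pow
  rw [X.wy, inv_pow, X.wi] at h
  exact h.symm

/-- Conjugating `w * z` by a power of `y`. -/
theorem conj_wz (j : Fin 5) {z : G} (hz : Commute z X.y) :
    (X.y ^ (j : ℕ))⁻¹ * (X.w * z) * X.y ^ (j : ℕ) = X.w * (X.y ^ ((j + j : Fin 5) : ℕ) * z) := by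
  have h : (X.y ^ (j : ℕ))⁻¹ * X.w = X.w * X.y ^ (j : ℕ) := by
    rw [← X.wyw, mul_assoc (X.w * _) X.w X.w, X.ww, mul_one]
  rw [pow_fin_add X.y5, ← mul_assoc, h, mul_assoc, mul_assoc, (hz.pow_right _).eq]
  simp only [mul_assoc]

/-- The swapping conjugates of the involution. -/
theorem swap_cases {g : G} (hg : g ∈ X.T) (ga : g • X.a = X.b) (gb : g • X.b = X.a) :
    X.w ∈ X.T ∨ (X.w * X.t ∈ X.T ∧ ∃ (i : Fin 5) (x : X.I),
      g = X.w * (X.y ^ (i : ℕ) * (X.t * x.1))) := by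
  have hm : X.w * g ∈ M2 G X.a X.b := by
    refine ⟨?_, ?_⟩
    · show (X.w * g) • X.a = X.a
      rw [mul_smul, ga, X.wb]
    · show (X.w * g) • X.b = X.b
      rw [mul_smul, gb, X.wa]
  have hg2 := X.T_sq g hg
  obtain ⟨m, hmg⟩ : ∃ m, m = X.w * g := ⟨_, rfl⟩
  have hgm : g = X.w * m := by rw [hmg, ← mul_assoc, X.ww, one_mul]
  rw [← hmg] at hm
  subst hgm
  obtain ⟨i, x, hx, rfl | rfl⟩ := X.decomp hm
  · left
    rw [show X.w * (X.y ^ (i : ℕ) * x) = X.w * X.y ^ (i : ℕ) * x from (mul_assoc _ _ _).symm]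
      at hg2 hg
    obtain rfl := swap_sq A X.hodd X.hab X.ww X.wy (X.commute_y hx) (X.commute_w hx) hx.1 hx.2
      _ hg2
    rw [mul_one] at hg
    have hj : 3 * i + 3 * i = i := (by decide : ∀ i : Fin 5, 3 * i + 3 * i = i) i
    have h := X.conj_wz (3 * i) (Commute.one_left X.y)
    rw [hj, mul_one, mul_one] at h
    rw [← h] at hg
    have h2 := X.T_conj (X.y ^ ((3 * i : Fin 5) : ℕ)) _ hg
    rwa [mul_assoc, mul_inv_cancel_right, mul_inv_cancel_left] at h2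
  · right
    have hyt : Commute (X.y ^ (i : ℕ)) X.t := (Commute.pow_right X.ty _).symm
    have e : X.w * (X.t * (X.y ^ (i : ℕ) * x)) = X.w * (X.y ^ (i : ℕ) * (X.t * x)) := by
      rw [← mul_assoc X.t, ← hyt.eq, mul_assoc]
    rw [e] at hg hg2 ⊢
    have hxi : X.t * x * X.t⁻¹ = x⁻¹ := by
      refine eq_inv_of_mul_eq_one_left ?_
      calc X.t * x * X.t⁻¹ * x
          = (X.y ^ (i : ℕ))⁻¹ * (X.t * x) * (X.y ^ (i : ℕ) * (X.t * x)) := by
            rw [X.ti, mul_assoc _ (X.t * x),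
              ((Commute.mul_left X.ty (X.commute_y hx)).pow_right _).left_comm,
              inv_mul_cancel_left, ← mul_assoc]
        _ = X.w * X.y ^ (i : ℕ) * X.w * (X.t * x) * (X.y ^ (i : ℕ) * (X.t * x)) := by
            rw [X.wyw]
        _ = X.w * (X.y ^ (i : ℕ) * (X.t * x)) * (X.w * (X.y ^ (i : ℕ) * (X.t * x))) := by
            have hc : Commute (X.t * x) X.w := Commute.mul_left X.tw (X.commute_w hx)
            simp only [mul_assoc]
            congr 2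
            rw [← mul_assoc X.w (X.t), ← mul_assoc X.t x, ← mul_assoc (X.t * x) X.w, hc.eq]
            simp only [mul_assoc]
        _ = 1 := hg2
    refine ⟨?_, i, ⟨x, hx, hxi⟩, rfl⟩
    have hj : 3 * i + 3 * i = i := (by decide : ∀ i : Fin 5, 3 * i + 3 * i = i) i
    have h := X.conj_wz (3 * i) (Commute.mul_left X.ty (X.commute_y hx))
    rw [hj] at h
    rw [← h] at hg
    have h2 := X.T_conj (X.y ^ ((3 * i : Fin 5) : ℕ)) _ hg
    rw [mul_assoc, mul_inv_cancel_right, mul_inv_cancel_left] at h2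
    obtain ⟨z, hz, hzt⟩ := X.exists_conj hx hxi
    have h3 := X.T_conj z _ h2
    rwa [← hzt, ← mul_assoc X.w, ← mul_assoc X.w, ← (X.commute_w (inv_mem hz)).eq, mul_assoc z⁻¹,
      mul_assoc z⁻¹, mul_inv_cancel_left, mul_inv_cancel_right] at h3

theorem card_swappers (hw : X.w ∉ X.T) (hwt : X.w * X.t ∈ X.T) :
    Nat.card (swappers X.T X.a X.b) = 5 * Nat.card X.I := by
  rw [← Nat.card_fin 5, ← Nat.card_prod]
  refine (Nat.card_eq_of_bijective (fun p : Fin 5 × X.I =>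
    (⟨X.w * (X.y ^ (p.1 : ℕ) * (X.t * p.2.1)), ?_, ?_, ?_⟩ : swappers X.T X.a X.b)) ⟨?_, ?_⟩).symm
  · obtain ⟨i, x, hx, hxi⟩ := p
    obtain ⟨z, hz, hzt⟩ := X.exists_conj hx hxi
    have h1 := X.T_conj z⁻¹ _ hwt
    rw [inv_inv, ← mul_assoc, (X.commute_w (inv_mem hz)).eq, mul_assoc X.w, mul_assoc X.w, hzt]
      at h1
    have hj : 3 * i + 3 * i = i := (by decide : ∀ i : Fin 5, 3 * i + 3 * i = i) i
    have h := X.conj_wz (3 * i) (Commute.mul_left X.ty (X.commute_y hx))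
    rw [hj] at h
    show X.w * (X.y ^ (i : ℕ) * (X.t * x)) ∈ X.T
    rw [← h]
    have h2 := X.T_conj (X.y ^ ((3 * i : Fin 5) : ℕ))⁻¹ _ h1
    rwa [inv_inv] at h2
  · rw [mul_smul, (mul_mem (pow_mem X.y_mem_M _) (mul_mem X.t_mem_M (X.V_le_M p.2.2.1))).1, X.wa]
  · rw [mul_smul, (mul_mem (pow_mem X.y_mem_M _) (mul_mem X.t_mem_M (X.V_le_M p.2.2.1))).2, X.wb]
  · rintro ⟨i, x⟩ ⟨j, x'⟩ e
    have e' := mul_left_cancel (congrArg Subtype.val e)
    simp only [← mul_assoc, ← (Commute.pow_right X.ty _).eq] at e'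
    rw [mul_assoc, mul_assoc] at e'
    obtain ⟨rfl, hx⟩ := X.ypow_inj x.2.1 x'.2.1 (mul_left_cancel e')
    exact Prod.ext rfl (Subtype.ext hx)
  · rintro ⟨g, hg, ga, gb⟩
    rcases X.swap_cases hg ga gb with h | ⟨-, i, x, rfl⟩
    · exact absurd h hw
    · exact ⟨(i, x), rfl⟩

theorem v_dvd_f (hw : X.w ∈ X.T) : A.v ∣ X.f := by
  haveI := finiteΩ A
  rw [← X.T_fix _ hw, ← X.card_V, ← Set.coe_ofPred, Nat.card_coe_set_eq]
  refine card_dvd_of_free X.V _ (fun g hg d hd => ?_) fun g hg d hd h => ?_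
  · show X.w • g • d = g • d
    rw [← mul_smul, ← (X.commute_w hg).eq, mul_smul, show X.w • d = d from hd]
  · by_contra hne
    exact X.wfix d ((A.V_fix X.a X.b g X.hab hg.1 hg.2 hne d).1 h) hd

theorem false_of_sigma (hu : Odd A.u) (h11u : 11 ∣ A.u) {q : ℕ} (hq : A.v = 11 * q)
    (hq11 : ¬ 11 ∣ q) (hq1 : q = 1 ∨ q % 11 = 1)
    (hN : ∀ x : G, x ∈ A.W X.a → x • X.b = X.b → orderOf x = 11 →
      ∀ g : G, g ∈ A.W X.a → g • X.b = X.b → g * x * g⁻¹ ∈ Subgroup.zpowers x →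
        g ∈ Subgroup.zpowers x)
    (h : ∀ x : G, x ∈ A.W X.a → x • X.b = X.b → orderOf x = 11 → X.t * x ≠ x * X.t) : False := by
  haveI := finiteΩ A
  obtain ⟨Q, hQV, hQ, hCQ, hcc⟩ := X.exists_Q hq hq11 hN h
  have hqu := X.q_dvd hQV hQ hq11
  obtain ⟨s, hs⟩ : Nat.card X.C ∣ q := hQ ▸ Subgroup.card_dvd_of_le hCQ
  have hcpos : 0 < Nat.card X.C := Nat.card_pos
  have hI : Nat.card X.I = 11 * s := by
    have h1 := X.card_I_mul
    rw [hq, hs] at h1
    exact Nat.eq_of_mul_eq_mul_right hcpos (h1.trans (by ring))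
  subst hs
  have hsodd : Odd s := X.hodd.of_dvd_nat (by rw [hq]; exact dvd_mul_of_dvd_right (dvd_mul_left _ _) _)
  have hu1 := A.one_lt_u
  by_cases hw : X.w ∈ X.T
  · have h1 : 11 * (Nat.card X.C * s) ∣ X.f := hq ▸ X.v_dvd_f hw
    rcases X.f_cases hu with hf | hf <;> rw [hf] at h1
    · have := Nat.le_of_dvd (by norm_num) ((dvd_mul_right 11 _).trans h1)
      omega
    · have h2 : Nat.card X.C ∣ 2 := (Nat.dvd_add_right (dvd_mul_left _ 10)).1
        (((dvd_mul_right _ s).trans (dvd_mul_left _ 11)).trans h1)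
      rcases (Nat.dvd_prime Nat.prime_two).1 h2 with e | e
      · rw [e] at h1
        exact absurd ((dvd_mul_right 11 _).trans h1) (by norm_num)
      · have := Nat.odd_iff.1 X.odd_C
        omega
  obtain ⟨e1, e2⟩ := count_eqs A.twoTrans X.T_conj X.T_sq X.T_fix X.hab
  rw [X.card_fixers, hI] at e1
  have hTpos : 0 < Nat.card X.T := by
    haveI : Nonempty X.T := ⟨⟨X.t, X.t_mem_T⟩⟩
    exact Nat.card_pos
  have hf2 := X.two_le_f
  by_cases hwt : X.w * X.t ∈ X.T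
  · rw [X.card_swappers hw hwt, hI] at e2
    have h1 : Nat.card Ω - X.f = 5 * (X.f * (X.f - 1)) := by
      refine Nat.eq_of_mul_eq_mul_left hTpos ?_
      rw [e2, mul_left_comm (Nat.card X.T) 5, e1]
      ring
    rw [A.card_points] at h1
    rcases X.f_cases hu with hf | hf <;> rw [hf] at h1
    · omega
    · refine count_false hu1 h11u hsodd X.odd_C hq11 hq1 hcc hqu ?_
      rw [show 10 * Nat.card X.C + 2 - 1 = 10 * Nat.card X.C + 1 by omega] at h1
      rw [show (10 * Nat.card X.C + 1) * (5 * (10 * Nat.card X.C + 1) + 6) =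
        5 * ((10 * Nat.card X.C + 2) * (10 * Nat.card X.C + 1)) + (10 * Nat.card X.C + 1) by ring]
      have hp : 0 < (10 * Nat.card X.C + 2) * (10 * Nat.card X.C + 1) := by positivity
      generalize (10 * Nat.card X.C + 2) * (10 * Nat.card X.C + 1) = m at h1 hp ⊢
      omega
  · have h0 : Nat.card (swappers X.T X.a X.b) = 0 := by
      rw [Nat.card_eq_zero]
      refine Or.inl ⟨fun ⟨g, hg, ga, gb⟩ => ?_⟩
      rcases X.swap_cases hg ga gb with h' | ⟨h', -⟩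
      exacts [hw h', hwt h']
    rw [h0, mul_zero, mul_eq_zero, Nat.sub_eq_zero_iff_le] at e2
    have hall : Nat.card Ω ≤ X.f := e2.resolve_left hTpos.ne'
    refine X.t_ne_one (A.faithful _ fun d => ?_)
    have h1 : {d : Ω | X.t • d = d} = Set.univ :=
      Set.eq_of_subset_of_ncard_le (Set.subset_univ _) (by rw [Set.ncard_univ]; exact hall)
    exact (h1.symm ▸ Set.mem_univ d : d ∈ {d : Ω | X.t • d = d})

end Ctx

/-- An inverting involution centralising no element of order eleven is impossible: counting. -/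
theorem false_of_inverted {G : Type u} {Ω : Type v} [Group G] [Finite G] [MulAction G Ω]
    (A : ACore G Ω) (hodd : Odd A.v) (hu : Odd A.u) (h11u : 11 ∣ A.u) {q : ℕ}
    (hq : A.v = 11 * q) (hq11 : ¬ 11 ∣ q) (hq1 : q = 1 ∨ q % 11 = 1) {a b : Ω} (hab : a ≠ b)
    (hN : ∀ x : G, x ∈ A.W a → x • b = b → orderOf x = 11 →
      ∀ g : G, g ∈ A.W a → g • b = b → g * x * g⁻¹ ∈ Subgroup.zpowers x →
        g ∈ Subgroup.zpowers x)
    {t : G} (htt : t * t = 1) (hta : t • a = a) (htb : t • b = b) (htW : t ∉ A.W a)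
    (h : ∀ x : G, x ∈ A.W a → x • b = b → orderOf x = 11 → t * x ≠ x * t) : False := by
  obtain ⟨X, rfl, rfl, rfl⟩ := exists_ctx hodd hab htt hta htb htW
  exact X.false_of_sigma hu h11u hq hq11 hq1 hN h

end H53.Eleven
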